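import Cfsg.Agent.Lib.Recog.OrderSixty
import Cfsg.Agent.Lib.FgsB.FourOrbits
import Cfsg.Agent.Lib.FgsC.Basic
import Cfsg.Agent.Lib.Perm.DegreeSeven
import Cfsg.Agent.Lib.Perm.Zass.Complement
import Cfsg.Agent.S0494
import Cfsg.Prelude.Def_Solvable

/-!
Tools for the groups without non-trivial solvable normal subgroup inside `A₈ ≅ GL₄(2)`.
-/

set_option autoImplicit false

open MulAction

namespace CfsgLib.Small.AEight

universe u

variable {G : Type u} [Group G] [Finite G]

/-- The group has no non-trivial solvable normal subgroup. -/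
def RadFree (G : Type u) [Group G] : Prop := ∀ N : Subgroup G, N.Normal → Group.IsSolvable N → N = ⊥

theorem radFree_of_cores (h2 : Cfsg.pCore 2 G = ⊥) (hO : Cfsg.pPrimeCore 2 G = ⊥) : RadFree G := by
  intro N hN hs
  by_contra hne
  classical
  obtain ⟨n, hn⟩ : ∃ n, derivedSeries N n = ⊥ := (Group.isSolvable_def _).1 hs
  have hex : ∃ n, derivedSeries N n = ⊥ := ⟨n, hn⟩
  have h0 : Nat.find hex ≠ 0 := by
    intro h
    have hb := Nat.find_spec hex
    rw [h, derivedSeries_zero] at hb
    exact hne (Subgroup.eq_bot_iff_forall _ |>.2 fun x hx => by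
      have : (⟨x, hx⟩ : N) ∈ (⊤ : Subgroup N) := trivial
      rw [hb, Subgroup.mem_bot] at this
      exact congrArg Subtype.val this)
  obtain ⟨m, hm⟩ := Nat.exists_eq_succ_of_ne_zero h0
  set D := derivedSeries N m with hD
  have hDne : D ≠ ⊥ := Nat.find_min hex (by omega)
  haveI : D.Characteristic := by rw [hD]; infer_instance
  set A := D.map N.subtype with hA
  haveI hAn : A.Normal := by rw [hA]; infer_instance
  have hAne : A ≠ ⊥ := by
    rw [hA, Ne, Subgroup.map_eq_bot_iff_of_injective _ N.subtype_injective]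
    exact hDne
  have hab : ∀ a ∈ A, ∀ b ∈ A, a * b = b * a := by
    rintro _ ⟨a, ha, rfl⟩ _ ⟨b, hb, rfl⟩
    have h1 := Subgroup.commutator_mem_commutator ha hb
    rw [hD, ← derivedSeries_succ, show m + 1 = Nat.find hex from hm.symm, Nat.find_spec hex, Subgroup.mem_bot,
      commutatorElement_eq_one_iff_mul_comm] at h1
    exact congrArg N.subtype h1
  let S : Subgroup G :=
    { carrier := {x | x ∈ A ∧ x * x = 1}
      one_mem' := ⟨one_mem _, one_mul 1⟩
      mul_mem' := fun {x y} hx hy => ⟨mul_mem hx.1 hy.1, by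
        rw [mul_assoc, ← mul_assoc y, hab y hy.1 x hx.1, mul_assoc x y y, hy.2, mul_one, hx.2]⟩
      inv_mem' := fun {x} hx => ⟨inv_mem hx.1, by rw [← mul_inv_rev, hx.2, inv_one]⟩ }
  haveI hSn : S.Normal := ⟨fun x hx g => ⟨hAn.conj_mem x hx.1 g, by
    rw [show g * x * g⁻¹ * (g * x * g⁻¹) = g * (x * x) * g⁻¹ by group, hx.2]; group⟩⟩
  have hS : S = ⊥ := by
    refine le_bot_iff.1 (h2 ▸ le_sSup ⟨hSn, fun x => ⟨1, Subtype.ext ?_⟩⟩)
    simpa [pow_two] using x.2.2
  refine hAne (le_bot_iff.1 (hO ▸ le_sSup ⟨hAn, ?_⟩))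
  rw [Nat.coprime_comm, Nat.Prime.coprime_iff_not_dvd Nat.prime_two]
  intro hdvd
  obtain ⟨x, hx⟩ := exists_prime_orderOf_dvd_card' (G := A) 2 hdvd
  have hmem : (x : G) ∈ S := ⟨x.2, by
    have := pow_orderOf_eq_one x
    rw [hx, pow_two] at this
    exact congrArg Subtype.val this⟩
  rw [hS, Subgroup.mem_bot] at hmem
  rw [show x = 1 from Subtype.ext hmem, orderOf_one] at hx
  omega

theorem RadFree.not_solvable (h : RadFree G) [Nontrivial G] : ¬ Group.IsSolvable G := fun hs =>
  top_ne_bot (α := Subgroup G) (h ⊤ inferInstance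
    (Group.isSolvable_of_isSolvable_injective (Subgroup.subtype_injective _)))

/-- An action with all orbits of at most four points and trivial kernel comes from a solvable group. -/
theorem isSolvable_of_orbits {α : Type*} [Finite α] [MulAction G α] [FaithfulSMul G α]
    (h : ∀ x : α, Nat.card (orbit G x) ≤ 4) : Group.IsSolvable G := by
  classical
  obtain ⟨n, hn⟩ : ∃ n, derivedSeries (Equiv.Perm (Fin 4)) n = ⊥ :=
    (Group.isSolvable_def _).1 CfsgLib.FgsC.isSolvable_perm_fin_four
  refine (Group.isSolvable_def _).2 ⟨n, (Subgroup.eq_bot_iff_forall _).2 fun g hg => ?_⟩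
  refine eq_of_smul_eq_smul (α := α) fun x => ?_
  let j : Equiv.Perm (orbit G x) →* Equiv.Perm (Fin 4) :=
    Equiv.Perm.viaEmbeddingHom ((Finite.equivFin (orbit G x)).toEmbedding.trans (Fin.castLEEmb (h x)))
  let f : G →* Equiv.Perm (Fin 4) := j.comp (toPermHom G (orbit G x))
  have hfg : f g = 1 := by
    have := map_derivedSeries_le_derivedSeries f n (Subgroup.mem_map_of_mem f hg)
    rwa [hn, Subgroup.mem_bot] at this
  have h1 : toPermHom G (orbit G x) g = 1 := Equiv.Perm.viaEmbeddingHom_injective _ (hfg.trans (map_one j).symm)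
  have h2 := congrArg Subtype.val (Equiv.ext_iff.1 h1 ⟨x, mem_orbit_self x⟩)
  rw [one_smul]
  exact h2

/-- A radical-free group acting faithfully on eight points is faithful and transitive on an orbit. -/
theorem exists_orbit [Nontrivial G] (hr : RadFree G) {α : Type*} [Finite α] [MulAction G α] [FaithfulSMul G α]
    (hα : Nat.card α = 8) :
    ∃ a : α, 5 ≤ Nat.card (orbit G a) ∧ Function.Injective (toPermHom G (orbit G a)) := by
  classical
  haveI : Fintype α := Fintype.ofFinite α
  obtain ⟨a, ha⟩ : ∃ a : α, 5 ≤ Nat.card (orbit G a) := by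
    by_contra h
    push Not at h
    exact hr.not_solvable (isSolvable_of_orbits fun x => Nat.le_of_lt_succ (h x))
  refine ⟨a, ha, (MonoidHom.ker_eq_bot_iff _).1 (hr _ (MonoidHom.normal_ker _) ?_)⟩
  set K := (toPermHom G (orbit G a)).ker
  haveI : FaithfulSMul K α := ⟨fun {k k'} h => Subtype.ext (eq_of_smul_eq_smul (α := α) h)⟩
  refine isSolvable_of_orbits (α := α) fun x => ?_
  by_cases hx : x ∈ orbit G a
  · refine le_trans (le_of_eq (Nat.card_eq_one_iff_unique.2 ⟨⟨?_⟩, ⟨⟨x, mem_orbit_self x⟩⟩⟩)) (by norm_num)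
    rintro ⟨_, k, rfl⟩ ⟨_, k', rfl⟩
    have hk : ∀ k : K, k • x = x := fun k =>
      congrArg Subtype.val (Equiv.ext_iff.1 (MonoidHom.mem_ker.1 k.2) ⟨x, hx⟩)
    exact Subtype.ext ((hk k).trans (hk k').symm)
  · have hsub : orbit K x ⊆ (orbit G a)ᶜ := by
      rintro _ ⟨k, rfl⟩ hk
      exact hx ((mem_orbit_symm.1 ((orbit_eq_iff.2 hk) ▸ (show x ∈ orbit G (k • x) from
        ⟨((k : G))⁻¹, by show (k : G)⁻¹ • ((k : G) • x) = x; rw [inv_smul_smul]⟩) : x ∈ orbit G a)) |> mem_orbit_symm.1)
    have h1 := Set.ncard_le_ncard hsub (Set.toFinite _)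
    rw [Set.ncard_compl, hα, ← Nat.card_coe_set_eq, ← Nat.card_coe_set_eq] at h1
    omega

theorem isSolvable_of_card_eighty_four (h : Nat.card G = 84) : Group.IsSolvable G := by
  haveI : Fact (Nat.Prime 7) := ⟨by norm_num⟩
  obtain ⟨P⟩ := (inferInstance : Nonempty (Sylow 7 G))
  have hPc : Nat.card (P : Subgroup G) = 7 := by
    rw [P.card_eq_multiplicity, h]
    decide +kernel
  have h1 : Nat.card (Sylow 7 G) ∣ 12 := by
    have h2 := P.card_dvd_index
    have h3 := (P : Subgroup G).card_mul_index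
    rw [hPc, h] at h3
    have : (P : Subgroup G).index = 12 := by omega
    rwa [this] at h2
  have h2 := card_sylow_modEq_one 7 G
  have h3 : Nat.card (Sylow 7 G) = 1 := by
    have hle := Nat.le_of_dvd (by norm_num) h1
    generalize Nat.card (Sylow 7 G) = k at h1 h2 hle
    interval_cases k <;> simp_all [Nat.ModEq]
  haveI : Subsingleton (Sylow 7 G) := (Nat.card_eq_one_iff_unique.1 h3).1
  haveI hn : (P : Subgroup G).Normal := Sylow.normal_of_subsingleton P
  haveI : IsCyclic (P : Subgroup G) := isCyclic_of_prime_card hPc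
  have hP : Group.IsSolvable (P : Subgroup G) := Group.isSolvable_of_comm fun a b => mul_comm' a b
  have hQ : Group.IsSolvable (G ⧸ (P : Subgroup G)) := CfsgLib.Recog.isSolvable_of_card_lt_sixty (by
    have h4 := (P : Subgroup G).card_mul_index
    rw [hPc, h, Subgroup.index_eq_card] at h4
    omega)
  exact (Group.isSolvable_iff_subgroup_quotient (P : Subgroup G)).2 ⟨hP, hQ⟩

theorem isSolvable_of_card_ext (N : Subgroup G) [N.Normal] (hN : Group.IsSolvable N) (hi : N.index < 60) :
    Group.IsSolvable G :=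
  (Group.isSolvable_iff_subgroup_quotient N).2
    ⟨hN, CfsgLib.Recog.isSolvable_of_card_lt_sixty (by rwa [← Subgroup.index_eq_card])⟩

theorem simple_of_card_sixty (h : Nat.card G = 60) (hns : ¬ Group.IsSolvable G) : IsSimpleGroup G := by
  haveI : Nontrivial G := Finite.one_lt_card_iff_nontrivial.1 (by omega)
  refine ⟨fun N hN => or_iff_not_imp_left.2 fun hne => by_contra fun htop => hns ?_⟩
  have hm := N.card_mul_index
  have h1 : 1 < Nat.card N := (Subgroup.one_lt_card_iff_ne_bot N).2 hne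
  have h2 : 1 < N.index := Subgroup.one_lt_index_of_ne_top htop
  rw [h] at hm
  exact isSolvable_of_card_ext N (CfsgLib.Recog.isSolvable_of_card_lt_sixty (by nlinarith)) (by nlinarith)

theorem simple_of_card_168 (h : Nat.card G = 168) (hns : ¬ Group.IsSolvable G) : IsSimpleGroup G := by
  haveI : Nontrivial G := Finite.one_lt_card_iff_nontrivial.1 (by omega)
  refine ⟨fun N hN => or_iff_not_imp_left.2 fun hne => by_contra fun htop => hns ?_⟩
  have hm := N.card_mul_index
  have h1 : 1 < Nat.card N := (Subgroup.one_lt_card_iff_ne_bot N).2 hne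
  have h2 : 1 < N.index := Subgroup.one_lt_index_of_ne_top htop
  rw [h] at hm
  have key : ∀ k ≤ 168, k ∣ 168 → 60 ≤ k → k = 84 ∨ k = 168 := by decide +kernel
  have hi : N.index < 60 := by
    by_contra hlt
    push Not at hlt
    rcases key N.index (by nlinarith) ⟨_, ((mul_comm _ _).trans hm).symm⟩ hlt with h3 | h3 <;> rw [h3] at hm
    · exact hns ((Group.isSolvable_iff_subgroup_quotient N).2 ⟨CfsgLib.Recog.isSolvable_of_card_lt_sixty (by omega),
        isSolvable_of_card_eighty_four (by rw [← Subgroup.index_eq_card, h3])⟩)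
    · omega
  rcases eq_or_ne (Nat.card N) 84 with h84 | h84
  · exact isSolvable_of_card_ext N (isSolvable_of_card_eighty_four h84) hi
  refine isSolvable_of_card_ext N (CfsgLib.Recog.isSolvable_of_card_lt_sixty ?_) hi
  by_contra hlt
  push Not at hlt
  rcases key _ (by nlinarith) ⟨_, hm.symm⟩ hlt with h3 | h3
  · exact h84 h3
  · rw [h3] at hm; omega

/-- A radical-free group of order 120 with a subgroup of index two is `S₅`. -/
theorem equiv_perm_five (hr : RadFree G) (h : Nat.card G = 120) (N : Subgroup G) [N.Normal]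
    (hN : Nat.card N = 60) : Nonempty (G ≃* Equiv.Perm (Fin 5)) := by
  have hns : ¬ Group.IsSolvable N := fun hs => by
    rw [hr N inferInstance hs, Subgroup.card_bot] at hN
    omega
  haveI := simple_of_card_sixty hN hns
  obtain ⟨e⟩ := Cfsg.Agent.S0494.result hN
  let f : G →* MulAut (alternatingGroup (Fin 5)) := (MulAut.congr e).toMonoidHom.comp MulAut.conjNormal
  let E := MulEquiv.ofBijective _ CfsgLib.Perm.Zass.conjNormal_bijective
  let φ : G →* Equiv.Perm (Fin 5) := E.symm.toMonoidHom.comp f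
  have hc : ∀ x ∈ φ.ker, ∀ y ∈ N, x * y = y * x := by
    intro x hx y hy
    have h1 : MulAut.congr e (MulAut.conjNormal x) = 1 := E.symm.map_eq_one_iff.1 hx
    have h2 : (MulAut.conjNormal x : MulAut N) = 1 := (MulAut.congr e).map_eq_one_iff.1 h1
    have h3 : x * y * x⁻¹ = y := by
      rw [← MulAut.conjNormal_apply (H := N) x ⟨y, hy⟩, h2]; rfl
    exact mul_inv_eq_iff_eq_mul.1 h3
  have hker : φ.ker = ⊥ := by
    refine hr _ (MonoidHom.normal_ker φ) (CfsgLib.Recog.isSolvable_of_card_lt_sixty ?_)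
    have hdisj : φ.ker ⊓ N = ⊥ := hr _ inferInstance (Group.isSolvable_of_comm fun a b =>
      Subtype.ext (hc a.1 a.2.1 b.1 b.2.2))
    have h1 := Nat.card_le_card_of_injective _ (Subgroup.mul_injective_of_disjoint (disjoint_iff.2 hdisj))
    rw [Nat.card_prod, h, hN] at h1
    omega
  have hinj := (MonoidHom.ker_eq_bot_iff φ).1 hker
  exact ⟨MulEquiv.ofBijective φ ((Nat.bijective_iff_injective_and_card φ).2 ⟨hinj, by
    rw [h, Nat.card_perm, Nat.card_fin]; rfl⟩)⟩

end CfsgLib.Small.AEight
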