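import Cfsg.Agent.Lib.Small.AEight.Basic
import Cfsg.Agent.S0497

/-!
The radical-free transitive groups of degree 5 to 8 inside the alternating group of degree eight.
-/

set_option autoImplicit false

open MulAction
open scoped Pointwise

namespace CfsgLib.Small.AEight

universe u

variable {G : Type u} [Group G] [Finite G]

/-- The possible isomorphism types. -/
def Out (G : Type u) [Group G] : Prop :=
  (∃ n : ℕ, 5 ≤ n ∧ n ≤ 8 ∧ Nonempty (G ≃* alternatingGroup (Fin n))) ∨
    Nonempty (G ≃* Equiv.Perm (Fin 5)) ∨ Nonempty (G ≃* Equiv.Perm (Fin 6)) ∨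
    (Nat.card G = 168 ∧ IsSimpleGroup G)

variable {α : Type} [Fintype α] [DecidableEq α]

/-- A monomorphism onto the alternating group. -/
theorem equiv_alt (f : G →* Equiv.Perm α) (hf : Function.Injective f) (h : f.range = alternatingGroup α) {n : ℕ}
    (hn : Fintype.card α = n) : Nonempty (G ≃* alternatingGroup (Fin n)) :=
  ⟨(MonoidHom.ofInjective hf).trans ((MulEquiv.subgroupCongr h).trans
    (Equiv.altCongrHom (Fintype.equivFinOfCardEq hn)))⟩

theorem deg_five (hr : RadFree G) [Nontrivial G] (f : G →* Equiv.Perm α) (hf : Function.Injective f)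
    (h5 : Fintype.card α = 5) : Out G := by
  have hdvd : Nat.card G ∣ 120 := by
    have h := Subgroup.card_dvd_of_injective f hf
    rwa [Nat.card_perm, Nat.card_eq_fintype_card (α := α), h5] at h
  have h60 : 60 ≤ Nat.card G := by
    by_contra h
    exact hr.not_solvable (CfsgLib.Recog.isSolvable_of_card_lt_sixty (by omega))
  have hc : Nat.card G = 60 ∨ Nat.card G = 120 := by
    have key : ∀ k ≤ 120, k ∣ 120 → 60 ≤ k → k = 60 ∨ k = 120 := by decide +kernel
    exact key _ (Nat.le_of_dvd (by norm_num) hdvd) hdvd h60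
  rcases hc with hc | hc
  · refine Or.inl ⟨5, le_rfl, by norm_num, equiv_alt f hf (Equiv.Perm.eq_alternatingGroup_of_index_eq_two ?_) h5⟩
    have h := f.range.card_mul_index
    rw [← Nat.card_congr (MonoidHom.ofInjective hf).toEquiv, hc, Nat.card_perm, Nat.card_eq_fintype_card (α := α), h5] at h
    simp [Nat.factorial] at h
    omega
  · exact Or.inr (Or.inl ⟨(MulEquiv.ofBijective f ((Nat.bijective_iff_injective_and_card f).2 ⟨hf, by
      rw [hc, Nat.card_perm, Nat.card_eq_fintype_card (α := α), h5]; rfl⟩)).trans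
      (Fintype.equivFinOfCardEq h5).permCongrHom⟩)

theorem deg_six (hr : RadFree G) [Nontrivial G] (f : G →* Equiv.Perm α) (hf : Function.Injective f)
    (h6 : Fintype.card α = 6) : Out G := by
  set N := (Equiv.Perm.sign.comp f).ker with hN
  have hns : ¬ Group.IsSolvable N := fun hs => hr.not_solvable
    (Group.isSolvable_of_ker_le_range N.subtype (Equiv.Perm.sign.comp f) (by rw [Subgroup.range_subtype]))
  haveI : Nontrivial α := Fintype.one_lt_card_iff_nontrivial.1 (by omega)
  have hA : Nat.card (alternatingGroup α) = 360 := by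
    have h := two_mul_nat_card_alternatingGroup (α := α)
    rw [Nat.card_perm, Nat.card_eq_fintype_card (α := α), h6, show Nat.factorial 6 = 720 from rfl] at h
    omega
  let g : N →* alternatingGroup α := (f.comp N.subtype).codRestrict _ fun x =>
    Equiv.Perm.mem_alternatingGroup.2 (MonoidHom.mem_ker.1 x.2)
  have hg : Function.Injective g := fun a b h => Subtype.ext (hf (congrArg Subtype.val h))
  have hNc : Nat.card N = 60 ∨ Nat.card N = 360 := by
    have h1 := g.range.card_mul_index
    rw [← Nat.card_congr (MonoidHom.ofInjective hg).toEquiv, hA] at h1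
    have h60 : 60 ≤ Nat.card N := by
      by_contra h
      exact hns (CfsgLib.Recog.isSolvable_of_card_lt_sixty (by omega))
    rcases eq_or_ne g.range ⊤ with ht | ht
    · right
      rw [ht, Subgroup.index_top] at h1
      omega
    · left
      have h2 := CfsgLib.Perm.le_index_of_lt_alternating (by omega) g.range ht
      rw [h6] at h2
      nlinarith
  have hi : N.index ∣ 2 := by
    rw [hN, Subgroup.index_ker]
    refine (Subgroup.card_subgroup_dvd_card _).trans ?_
    rw [Nat.card_eq_fintype_card, Fintype.card_units_int]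
  have hm := N.card_mul_index
  rcases (Nat.dvd_prime Nat.prime_two).1 hi with h1 | h1 <;> rw [h1] at hm
  · have hNt : N = ⊤ := Subgroup.index_eq_one.1 h1
    have e : N ≃* G := (MulEquiv.subgroupCongr hNt).trans Subgroup.topEquiv
    rcases hNc with hc | hc
    · haveI := simple_of_card_sixty hc hns
      obtain ⟨i⟩ := Cfsg.Agent.S0494.result hc
      exact Or.inl ⟨5, le_rfl, by norm_num, ⟨e.symm.trans i⟩⟩
    · refine Or.inl ⟨6, by norm_num, by norm_num, ⟨e.symm.trans ((MulEquiv.ofBijective g
        ((Nat.bijective_iff_injective_and_card g).2 ⟨hg, by rw [hc, hA]⟩)).trans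
        (Equiv.altCongrHom (Fintype.equivFinOfCardEq h6)))⟩⟩
  · rcases hNc with hc | hc
    · exact Or.inr (Or.inl (equiv_perm_five hr (by omega) N hc))
    · exact Or.inr (Or.inr (Or.inl ⟨(MulEquiv.ofBijective f ((Nat.bijective_iff_injective_and_card f).2 ⟨hf, by
        rw [Nat.card_perm, Nat.card_eq_fintype_card (α := α), h6]; simp [Nat.factorial]; omega⟩)).trans
        (Fintype.equivFinOfCardEq h6).permCongrHom⟩))

theorem deg_seven (hr : RadFree G) [Nontrivial G] (f : G →* Equiv.Perm α) (hf : Function.Injective f)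
    (h7 : Fintype.card α = 7) [IsPretransitive f.range α] (he : f.range ≤ alternatingGroup α) : Out G := by
  let e := MonoidHom.ofInjective hf
  have hns : ¬ Group.IsSolvable f.range := fun hs => hr.not_solvable
    (Group.isSolvable_of_isSolvable_injective (f := e.toMonoidHom) e.injective)
  rcases eq_or_ne f.range (alternatingGroup α) with h | h
  · exact Or.inl ⟨7, by norm_num, by norm_num, equiv_alt f hf h h7⟩
  · obtain ⟨hc, hs⟩ := CfsgLib.Perm.degree_seven_even h7 f.range he h hns
    refine Or.inr (Or.inr (Or.inr ⟨(Nat.card_congr e.toEquiv).trans hc, ?_⟩))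
    exact simple_of_card_168 ((Nat.card_congr e.toEquiv).trans hc) hr.not_solvable

/-- A transitive group of degree eight with an element of order five or seven is primitive. -/
theorem preprimitive {H : Subgroup (Equiv.Perm α)} (h8 : Fintype.card α = 8) [IsPretransitive H α] {p : ℕ}
    (hp : p = 5 ∨ p = 7) {σ : Equiv.Perm α} (hσ : σ ∈ H) (hc : σ.IsCycle) (hsupp : σ.support.card = p) :
    IsPreprimitive H α := by
  classical
  obtain ⟨a, ha⟩ : ∃ a, σ a = a := by
    by_contra h
    push Not at h
    have : σ.support = Finset.univ := Finset.eq_univ_of_forall fun x => Equiv.Perm.mem_support.2 (h x)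
    rw [this, Finset.card_univ, h8] at hsupp
    omega
  refine IsPreprimitive.of_isTrivialBlock_base a fun {B} haB hB => ?_
  by_contra hnt
  rw [IsTrivialBlock, not_or] at hnt
  have key : ∀ B : Set α, IsBlock H B → ∀ c ∈ B, σ c = c → B.ncard < 5 → ∀ x ∈ B, σ x = x := by
    intro B hB c hc' hσc hlt x hx
    by_contra hxne
    have hinv : (⟨σ, hσ⟩ : H) • B = B := by
      refine hB.smul_eq_of_mem (a := c) hc' ?_
      rwa [Subgroup.mk_smul, Equiv.Perm.smul_def, hσc]
    have hsub : (σ.support : Set α) ⊆ B := by
      intro y hy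
      obtain ⟨i, hi⟩ := hc.sameCycle hxne (Equiv.Perm.mem_support.1 hy)
      have : (⟨σ, hσ⟩ : H) ^ i • B = B := (stabilizer H B).zpow_mem hinv i
      rw [← this]
      exact ⟨x, hx, hi⟩
    have := Set.ncard_le_ncard hsub (Set.toFinite _)
    rw [Set.ncard_coe_finset] at this
    omega
  have hfix : (σ.supportᶜ : Finset α).card ≤ 3 := by rw [Finset.card_compl, h8, hsupp]; omega
  have hlt : B.ncard < 5 := by
    have h1 := hB.ncard_dvd_card ⟨a, haB⟩
    rw [Nat.card_eq_fintype_card, h8] at h1
    have h2 : B.ncard ≠ 8 := fun h => hnt.2 ((Set.eq_univ_iff_ncard B).2 (by rw [h, Nat.card_eq_fintype_card, h8]))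
    have h3 := Nat.le_of_dvd (by norm_num) h1
    by_contra h4
    interval_cases (B.ncard) <;> first | omega | exact absurd h1 (by decide)
  have hBfix := key B hB a haB ha hlt
  have hB2 : 2 ≤ B.ncard := Set.one_lt_ncard_iff_nontrivial.2 (Set.not_subsingleton_iff.1 hnt.1)
  obtain ⟨c, hc1, hcB⟩ : ∃ c, σ c = c ∧ c ∉ B := by
    by_contra h
    push Not at h
    have heq : B = (σ.supportᶜ : Finset α) := by
      ext x
      simp only [Finset.coe_compl, Set.mem_compl_iff, Finset.mem_coe, Equiv.Perm.notMem_support]
      exact ⟨hBfix x, h x⟩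
    have h1 := hB.ncard_dvd_card ⟨a, haB⟩
    rw [Nat.card_eq_fintype_card, h8, heq, Set.ncard_coe_finset, Finset.card_compl, h8, hsupp] at h1
    have hsz : B.ncard = 8 - p := by rw [heq, Set.ncard_coe_finset, Finset.card_compl, h8, hsupp]
    rcases hp with rfl | rfl
    · exact absurd h1 (by decide)
    · omega
  obtain ⟨h, hh⟩ := exists_smul_eq H a c
  have hB' := hB.translate h
  have hcB' : c ∈ h • B := hh ▸ Set.smul_mem_smul_set haB
  have hB'fix := key _ hB' c hcB' hc1 (by rwa [Set.ncard_smul_set])
  have hdisj : Disjoint B (h • B) := by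
    rcases hB.smul_eq_smul_or_disjoint (g₁ := 1) (g₂ := h) with h1 | h1
    · rw [one_smul] at h1; exact absurd (h1 ▸ hcB') hcB
    · rwa [one_smul] at h1
  have h1 : (B ∪ h • B).ncard ≤ 3 := by
    refine le_trans (Set.ncard_le_ncard (t := ((σ.supportᶜ : Finset α) : Set α)) ?_ (Set.toFinite _))
      (by rwa [Set.ncard_coe_finset])
    intro x hx
    simp only [Finset.coe_compl, Set.mem_compl_iff, Finset.mem_coe, Equiv.Perm.notMem_support]
    exact hx.elim (hBfix x) (hB'fix x)
  rw [Set.ncard_union_eq hdisj, Set.ncard_smul_set] at h1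
  omega

end CfsgLib.Small.AEight
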