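import Cfsg.Agent.Lib.Small.AEight.Degree

/-!
Transitive radical-free groups of even permutations of degree eight.
-/

set_option autoImplicit false

open MulAction

namespace CfsgLib.Small.AEight

universe u

variable {α : Type} [Fintype α] [DecidableEq α]

/-- A non-solvable transitive group of degree eight has order divisible by seven and is two-transitive. -/
theorem seven_dvd {H : Subgroup (Equiv.Perm α)} (h8 : Fintype.card α = 8) [IsPretransitive H α]
    (hns : ¬ Group.IsSolvable H) : 7 ∣ Nat.card H ∧ IsMultiplyPretransitive H α 2 := by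
  classical
  obtain ⟨p, hpp, hp, hdvd⟩ : ∃ p, p.Prime ∧ (p = 5 ∨ p = 7) ∧ p ∣ Nat.card H := by
    by_contra hno
    push Not at hno
    refine hns (CfsgLib.FgsB.FourOrbits.isSolvable_of_card_primeFactors_le_two ?_)
    have hsub : (Nat.card H).primeFactors ⊆ ({2, 3} : Finset ℕ) := by
      intro r hr
      obtain ⟨hr1, hr2, -⟩ := Nat.mem_primeFactors.1 hr
      have h1 : r ∣ Nat.factorial 8 := hr2.trans (by
        have := Subgroup.card_subgroup_dvd_card H
        rwa [Nat.card_perm, Nat.card_eq_fintype_card (α := α), h8] at this)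
      have h2 := (hr1.dvd_factorial).1 h1
      interval_cases r <;> first | decide | exact absurd hr1 (by decide) | exact absurd hr2 (hno _ hr1 (by simp))
    exact le_trans (Finset.card_le_card hsub) (by simp)
  haveI := Fact.mk hpp
  obtain ⟨⟨σ, hσ⟩, hord⟩ := exists_prime_orderOf_dvd_card' (G := H) p hdvd
  rw [Subgroup.orderOf_mk] at hord
  have hc : σ.IsCycle := Equiv.Perm.isCycle_of_prime_order' (by rw [hord]; exact hpp) (by rw [hord, h8]; omega)
  have hsupp : σ.support.card = p := by rw [← hc.orderOf, hord]
  have hprim := preprimitive h8 hp hσ hc hsupp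
  set s : Set α := (σ.support : Set α)ᶜ with hs
  have hscard : s.ncard = (7 - p) + 1 := by
    rw [hs, Set.ncard_compl, Set.ncard_coe_finset, hsupp, Nat.card_eq_fintype_card, h8]; omega
  haveI := Equiv.Perm.isPretransitive_of_isCycle_mem hc hσ
  have hsmall : IsPreprimitive (fixingSubgroup H s) (SubMulAction.ofFixingSubgroup H s) := by
    refine IsPreprimitive.of_prime_card ?_
    have : Nat.card (SubMulAction.ofFixingSubgroup H s) = p := by
      show Nat.card (sᶜ : Set α) = p
      rw [hs, compl_compl, Nat.card_coe_set_eq, Set.ncard_coe_finset, hsupp]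
    rw [this]
    exact hpp
  have hmult := hprim.isMultiplyPreprimitive hscard (by rw [Nat.card_eq_fintype_card, h8]; omega) hsmall
  have hpt : IsMultiplyPretransitive H α (7 - p + 2) := hmult.isMultiplyPretransitive
  refine ⟨?_, isMultiplyPretransitive_of_le (show 2 ≤ 7 - p + 2 by omega)
    (by simp [Nat.card_eq_fintype_card, h8]; omega)⟩
  have := CfsgLib.Perm.dvd_card_of_transitive_tuples hpt (by rw [h8]; omega)
  rw [h8] at this
  rcases hp with rfl | rfl
  · exact dvd_trans (by decide) this
  · exact hdvd

variable {G : Type u} [Group G] [Finite G]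

theorem deg_eight (hr : RadFree G) [Nontrivial G] (f : G →* Equiv.Perm α) (hf : Function.Injective f)
    (h8 : Fintype.card α = 8) [IsPretransitive f.range α] (he : f.range ≤ alternatingGroup α) :
    Out G ∨ Nat.card G = 1344 := by
  classical
  set H := f.range with hH
  let e : G ≃* H := MonoidHom.ofInjective hf
  have hns : ¬ Group.IsSolvable H := fun hs => hr.not_solvable
    (Group.isSolvable_of_isSolvable_injective (f := e.toMonoidHom) e.injective)
  obtain ⟨h7, h2⟩ := seven_dvd h8 hns
  have hGH : Nat.card G = Nat.card H := Nat.card_congr e.toEquiv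
  obtain ⟨a⟩ : Nonempty α := Fintype.card_pos_iff.1 (by omega)
  let β := {x : α // x ≠ a}
  have hβ : Fintype.card β = 7 := by simp [β, h8]
  have hstab : ∀ g : stabilizer H a, ∀ x, ((g : H) : Equiv.Perm α) x ≠ a ↔ x ≠ a := by
    intro g x
    have hga : ((g : H) : Equiv.Perm α) a = a := g.2
    constructor
    · intro h hx; exact h (by rw [hx, hga])
    · intro h hx; exact h (((g : H) : Equiv.Perm α).injective (hx.trans hga.symm))
  let ψ : stabilizer H a →* Equiv.Perm β :=
    { toFun := fun g => ((g : H) : Equiv.Perm α).subtypePerm (hstab g)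
      map_one' := Equiv.ext fun x => rfl
      map_mul' := fun g g' => Equiv.ext fun x => rfl }
  have hψ : Function.Injective ψ := fun g g' h => Subtype.ext (Subtype.ext (Equiv.ext fun x => by
    by_cases hx : x = a
    · rw [hx]; exact g.2.trans g'.2.symm
    · exact congrArg Subtype.val (Equiv.ext_iff.1 h ⟨x, hx⟩)))
  set S := ψ.range with hS
  have hSA : S ≤ alternatingGroup β := by
    rintro _ ⟨g, rfl⟩
    rw [Equiv.Perm.mem_alternatingGroup]
    show Equiv.Perm.sign (((g : H) : Equiv.Perm α).subtypePerm (hstab g)) = 1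
    refine (Equiv.Perm.sign_subtypePerm (p := fun x => x ≠ a) _ (hstab g) fun x hx hxa => hx ?_).trans
      (Equiv.Perm.mem_alternatingGroup.1 (he g.1.2))
    rw [hxa]; exact g.2
  haveI : IsPretransitive S β := by
    refine ⟨fun x y => ?_⟩
    obtain ⟨g, hga, hgx⟩ : ∃ g : H, g • a = a ∧ g • (x : α) = (y : α) :=
      (MulAction.is_two_pretransitive_iff.1 h2) x.2.symm y.2.symm
    exact ⟨⟨_, ⟨⟨g, hga⟩, rfl⟩⟩, Subtype.ext hgx⟩
  have hcard : Nat.card H = 8 * Nat.card S := by
    rw [← (stabilizer H a).card_mul_index, index_stabilizer_of_transitive, Nat.card_eq_fintype_card (α := α), h8,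
      ← Nat.card_congr (MonoidHom.ofInjective hψ).toEquiv, mul_comm]
  haveI : Nontrivial α := Fintype.one_lt_card_iff_nontrivial.1 (by omega)
  haveI : Nontrivial β := Fintype.one_lt_card_iff_nontrivial.1 (by omega)
  have hA7 : Nat.card (alternatingGroup β) = 2520 := by
    have h := two_mul_nat_card_alternatingGroup (α := β)
    rw [Nat.card_perm, Nat.card_eq_fintype_card (α := β), hβ, show Nat.factorial 7 = 5040 from rfl] at h
    omega
  by_cases hSs : Group.IsSolvable S
  · haveI : Fact (Nat.Prime 7) := ⟨by norm_num⟩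
    obtain ⟨P⟩ := (inferInstance : Nonempty (Sylow 7 S))
    obtain ⟨k, n, hc, hN, -, hk, hn, hk1⟩ := CfsgLib.Perm.exists_counts hβ P
    have hkodd : ¬ Even k := by
      intro heven
      obtain ⟨σ, s, c, -, -, -, -, hs⟩ := CfsgLib.Perm.exists_coord_neg hβ (by norm_num) P
        (by rw [hN]; exact heven.mul_left 7)
      have hsc : (s : Equiv.Perm β) = c.permCongr (Equiv.neg (ZMod 7)) := Equiv.ext fun x => by
        obtain ⟨j, rfl⟩ := c.surjective x
        simpa [Subgroup.smul_def] using hs j
      have h1 : Equiv.Perm.sign (s : Equiv.Perm β) = 1 := Equiv.Perm.mem_alternatingGroup.1 (hSA s.2)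
      rw [hsc, Equiv.Perm.sign_permCongr, CfsgLib.Perm.sign_neg_zmod_seven] at h1
      exact absurd h1 (by decide)
    have h49 : Nat.card S ≤ 49 := by
      obtain ⟨σ, c, hσo, hc'⟩ := CfsgLib.Perm.exists_coord (G := S) hβ
      have haff := fun g => CfsgLib.Perm.affine_of_isSolvable hβ hSs hσo hc' g
      refine (Nat.card_le_card_of_injective (fun g : S => (c.symm (g • c 0), c.symm (g • c 1))) ?_).trans
        (by rw [Nat.card_prod, Nat.card_zmod])
      intro g g' h
      simp only [Prod.mk.injEq] at h
      obtain ⟨A, B, hg⟩ := haff g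
      obtain ⟨A', B', hg'⟩ := haff g'
      rw [hg, hg, hg', hg'] at h
      simp only [Equiv.symm_apply_apply, mul_zero, zero_add, mul_one] at h
      obtain ⟨rfl, h2⟩ := h
      obtain rfl : A = A' := add_right_cancel h2
      refine Subtype.ext (Equiv.ext fun x => ?_)
      obtain ⟨j, rfl⟩ := c.surjective x
      exact (hg j).trans (hg' j).symm
    have hn1 : n = 1 ∧ (k = 1 ∨ k = 3) := by
      have hk13 : k = 1 ∨ k = 3 := by
        have : ∀ k ≤ 6, k ∣ 6 → ¬ Even k → k = 1 ∨ k = 3 := by decide
        exact this k (Nat.le_of_dvd (by norm_num) hk) hk hkodd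
      refine ⟨?_, hk13⟩
      rcases hk13 with h | h
      · exact hk1 h
      · subst h; omega
    obtain ⟨rfl, hk'⟩ := hn1
    rcases hk' with rfl | rfl
    · exfalso
      refine hns (CfsgLib.Recog.isSolvable_of_card_lt_sixty ?_)
      omega
    · refine Or.inl (Or.inr (Or.inr (Or.inr ⟨by omega, simple_of_card_168 (by omega) hr.not_solvable⟩)))
  · rcases eq_or_ne S (alternatingGroup β) with h | h
    · left
      refine Or.inl ⟨8, by norm_num, le_rfl, equiv_alt f hf (Subgroup.eq_of_le_of_card_ge he ?_) h8⟩
      have hA := two_mul_nat_card_alternatingGroup (α := α)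
      rw [Nat.card_perm, Nat.card_eq_fintype_card (α := α), h8, show Nat.factorial 8 = 40320 from rfl] at hA
      rw [← hH, hcard, h, hA7]
      omega
    · right
      rw [hGH, hcard, (CfsgLib.Perm.degree_seven_even hβ S hSA h hSs).1]

end CfsgLib.Small.AEight
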