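import Cfsg.Agent.Lib.Classical.PermModels
import Cfsg.Agent.Lib.Classical.PSLSimple

/-!
`GL(4, 2)` is isomorphic to the alternating group of degree 8.
-/

set_option autoImplicit false

namespace CfsgLib.Small.AEight

theorem nonempty_glFour_equiv_altEight :
    Nonempty (GL (Fin 4) (ZMod 2) ≃* alternatingGroup (Fin 8)) := by
  haveI : Fact (Nat.Prime 2) := ⟨Nat.prime_two⟩
  have hcen : Subgroup.center (Matrix.SpecialLinearGroup (Fin 4) (ZMod 2)) = ⊥ := by
    rw [Subgroup.eq_bot_iff_card, CfsgLib.Classical.card_center_SL_fin 4 (by norm_num),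
      Nat.card_zmod]
    rfl
  obtain ⟨e1⟩ := CfsgLib.Classical.pOmega_six_plus_equiv (F := ZMod 2)
  obtain ⟨e2⟩ := CfsgLib.Classical.pOmega_six_two_equiv_A8
  let e4 : Matrix.ProjectiveSpecialLinearGroup (Fin 4) (ZMod 2) ≃*
      Matrix.SpecialLinearGroup (Fin 4) (ZMod 2) :=
    (QuotientGroup.quotientMulEquivOfEq hcen).trans QuotientGroup.quotientBot
  let Φ : alternatingGroup (Fin 8) →* GL (Fin 4) (ZMod 2) :=
    Matrix.SpecialLinearGroup.toGL.comp ((e2.symm.trans e1).trans e4).toMonoidHom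
  have hΦ : Function.Bijective Φ := (Nat.bijective_iff_injective_and_card Φ).2
    ⟨Matrix.SpecialLinearGroup.toGL_injective.comp ((e2.symm.trans e1).trans e4).injective, by
      rw [nat_card_alternatingGroup, Nat.card_fin, CfsgLib.Classical.card_GL_fin, Nat.card_zmod]
      rfl⟩
  exact ⟨(MulEquiv.ofBijective Φ hΦ).symm⟩

end CfsgLib.Small.AEight
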