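import Cfsg.Agent.Lib.Small.AEight.Basic
import Mathlib

/-!
No radical-free subgroup of order 1344 in `GL₄(2)`.
-/

set_option autoImplicit false

open MulAction Matrix

namespace CfsgLib.Small.AEight

local notation "V4" => (Fin 4 → ZMod 2)

theorem not_1344 (H : Subgroup (GL (Fin 4) (ZMod 2))) (hr : RadFree H) : Nat.card H ≠ 1344 := by
  have key2 : ∀ a b : ZMod 2, a + a = b + b := by decide
  classical
  intro hc
  haveI : Fact (Nat.Prime 2) := ⟨Nat.prime_two⟩
  let act : MulAction H V4 :=
    { smul := fun g v => ((g : GL (Fin 4) (ZMod 2)) : Matrix (Fin 4) (Fin 4) (ZMod 2)) *ᵥ v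
      one_smul := fun v => Matrix.one_mulVec v
      mul_smul := fun g g' v => (Matrix.mulVec_mulVec v _ _).symm }
  have hsm : ∀ (g : H) (v : V4), g • v = ((g : GL (Fin 4) (ZMod 2)) : Matrix (Fin 4) (Fin 4) (ZMod 2)) *ᵥ v :=
    fun _ _ => rfl
  obtain ⟨T⟩ := (inferInstance : Nonempty (Sylow 2 H))
  have hT : Nat.card (T : Subgroup H) = 64 := by
    rw [T.card_eq_multiplicity, hc]
    decide +kernel
  obtain ⟨v, hv, hv0⟩ := T.isPGroup'.exists_fixed_point_of_prime_dvd_card_of_fixed_point V4
    (by rw [Nat.card_fun, Nat.card_zmod, Nat.card_fin]; norm_num)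
    (a := (0 : V4)) (fun g => Matrix.mulVec_zero _)
  have hv' : ∀ g ∈ (T : Subgroup H), g • v = v := fun g hg => hv ⟨g, hg⟩
  set O := orbit H v with hO
  have hO21 : Nat.card O ∣ 21 := by
    have h1 : (stabilizer H v).index = Nat.card O := by rw [MulAction.index_stabilizer]; rfl
    have h2 : Nat.card O ∣ (T : Subgroup H).index := h1 ▸ Subgroup.index_dvd_of_le (fun g hg => hv' g hg)
    have h3 := (T : Subgroup H).card_mul_index
    rw [hT, hc] at h3
    have : (T : Subgroup H).index = 21 := by omega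
    rwa [this] at h2
  have hO0 : (0 : V4) ∉ O := by
    rintro ⟨g, hg⟩
    refine hv0 ?_
    have h := congrArg (fun w : V4 => g⁻¹ • w) hg
    simp only [inv_smul_smul] at h
    rw [h]
    exact (Matrix.mulVec_zero _).symm
  set W : Submodule (ZMod 2) V4 := Submodule.span (ZMod 2) O with hW
  have hWinv : ∀ (g : H), ∀ w ∈ W, g • w ∈ W := by
    intro g w hw
    have : W.map ((g : GL (Fin 4) (ZMod 2)) : Matrix (Fin 4) (Fin 4) (ZMod 2)).mulVecLin ≤ W := by
      rw [hW, Submodule.map_span]
      refine Submodule.span_mono ?_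
      rintro _ ⟨x, hx, rfl⟩
      show g • x ∈ O
      rw [hO, ← MulAction.orbit_eq_iff.2 hx]
      exact ⟨g, rfl⟩
    exact this ⟨w, hw, rfl⟩
  have hvW : v ∈ W := Submodule.subset_span (mem_orbit_self v)
  by_cases hWt : W = ⊤
  · let f := toPermHom H O
    have hf : Function.Injective f := by
      refine (injective_iff_map_eq_one f).2 fun g hg => Subtype.ext (Units.ext (Matrix.ext_iff_mulVec.2 fun w => ?_))
      have hw : w ∈ W := hWt ▸ Submodule.mem_top
      rw [OneMemClass.coe_one, Units.val_one, Matrix.one_mulVec]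
      induction hw using Submodule.span_induction with
      | mem x hx => exact congrArg Subtype.val (Equiv.ext_iff.1 hg ⟨x, hx⟩)
      | zero => exact Matrix.mulVec_zero _
      | add x y _ _ hx hy => rw [Matrix.mulVec_add, hx, hy]
      | smul a x _ hx => rw [Matrix.mulVec_smul, hx]
    have hle : Nat.card O ≤ 15 := by
      have h1 : O ⊆ ({0} : Set V4)ᶜ := fun x hx h0 => hO0 (by rwa [Set.mem_singleton_iff.1 h0] at hx)
      have h2 := Set.ncard_le_ncard h1 (Set.toFinite _)
      rw [Set.ncard_compl, Set.ncard_singleton, Nat.card_fun, Nat.card_zmod, Nat.card_fin, ← Nat.card_coe_set_eq] at h2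
      rw [show (2 : ℕ) ^ 4 - 1 = 15 from rfl] at h2
      exact h2
    have h7 : Nat.card O ≤ 7 := by
      generalize Nat.card O = k at hO21 hle
      interval_cases k <;> first | omega | exact absurd hO21 (by decide)
    have h1 : Nat.card H ∣ Nat.factorial (Nat.card O) := by
      have := Subgroup.card_dvd_of_injective f hf
      rwa [Nat.card_perm] at this
    rw [hc] at h1
    have h2 := h1.trans (Nat.factorial_dvd_factorial h7)
    exact absurd h2 (by decide +kernel)
  · let rW : H → (W → W) := fun g w => ⟨g • (w : V4), hWinv g w w.2⟩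
    let rQ : H → (V4 ⧸ W →ₗ[ZMod 2] V4 ⧸ W) := fun g =>
      W.mapQ W ((g : GL (Fin 4) (ZMod 2)) : Matrix (Fin 4) (Fin 4) (ZMod 2)).mulVecLin fun w hw => hWinv g w hw
    let rW' : H → (W →ₗ[ZMod 2] W) := fun g =>
      ((g : GL (Fin 4) (ZMod 2)) : Matrix (Fin 4) (Fin 4) (ZMod 2)).mulVecLin.restrict fun w hw => hWinv g w hw
    let K : Subgroup H :=
      { carrier := {g | (∀ w ∈ W, g • w = w) ∧ ∀ x : V4, g • x - x ∈ W}
        one_mem' := ⟨fun w _ => one_smul H w, fun x => by simp⟩
        mul_mem' := fun {g g'} hg hg' => ⟨fun w hw => by rw [mul_smul, hg'.1 w hw, hg.1 w hw], fun x => by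
          rw [mul_smul, show g • g' • x - x = (g • (g' • x) - g' • x) + (g' • x - x) by abel]
          exact W.add_mem (hg.2 _) (hg'.2 x)⟩
        inv_mem' := fun {g} hg => ⟨fun w hw => inv_smul_eq_iff.2 (hg.1 w hw).symm, fun x => by
          have := hg.2 (g⁻¹ • x)
          rw [smul_inv_smul] at this
          rw [show g⁻¹ • x - x = -(x - g⁻¹ • x) by abel]
          exact W.neg_mem this⟩ }
    haveI hKn : K.Normal := ⟨fun g hg h => ⟨fun w hw => by
      rw [mul_smul, mul_smul, hg.1 _ (hWinv h⁻¹ w hw), smul_inv_smul], fun x => by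
      have h1 := hWinv h _ (hg.2 (h⁻¹ • x))
      rw [hsm h, Matrix.mulVec_sub, ← hsm h, ← hsm h, smul_inv_smul, ← mul_smul, ← mul_smul] at h1
      exact h1⟩⟩
    have hK2 : IsPGroup 2 K := fun g => ⟨1, Subtype.ext (Subtype.ext (Units.ext (Matrix.ext_iff_mulVec.2 fun x => by
      have h1 : (g : H) • ((g : H) • x - x) = (g : H) • x - x := g.2.1 _ (g.2.2 x)
      rw [hsm, Matrix.mulVec_sub, ← hsm, ← hsm] at h1
      simp only [pow_one, pow_two, Subgroup.coe_mul, Units.val_mul, OneMemClass.coe_one, Units.val_one,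
        Matrix.one_mulVec, ← Matrix.mulVec_mulVec]
      rw [← hsm, ← hsm]
      rw [sub_eq_iff_eq_add] at h1
      rw [h1, sub_add_eq_add_sub, sub_eq_iff_eq_add]
      ext i
      simp only [Pi.add_apply]
      generalize ((g : H) • x) i = a
      generalize x i = b
      exact key2 _ _)))⟩
    have hKb : K = ⊥ := hr K hKn (by
      haveI : Group.IsNilpotent K := hK2.isNilpotent
      infer_instance)
    have hinj : Function.Injective (fun g => (rW' g, rQ g)) := by
      intro g g' h
      simp only [Prod.mk.injEq] at h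
      have hmem : g'⁻¹ * g ∈ K := by
        refine ⟨fun w hw => ?_, fun x => ?_⟩
        · have h1 : g • w = g' • w := congrArg Subtype.val (LinearMap.congr_fun h.1 ⟨w, hw⟩)
          rw [mul_smul, h1, inv_smul_smul]
        · have h1 : g • x - g' • x ∈ W := (Submodule.Quotient.eq W).1 (LinearMap.congr_fun h.2 (Submodule.Quotient.mk x))
          have h2 := hWinv g'⁻¹ _ h1
          rwa [hsm g'⁻¹, Matrix.mulVec_sub, ← hsm g'⁻¹, ← hsm g'⁻¹, inv_smul_smul, ← mul_smul] at h2
      rw [hKb, Subgroup.mem_bot, inv_mul_eq_one] at hmem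
      exact hmem.symm
    haveI : Finite (W →ₗ[ZMod 2] W) := Finite.of_injective _ DFunLike.coe_injective
    haveI : Finite (V4 ⧸ W →ₗ[ZMod 2] V4 ⧸ W) := Finite.of_injective _ DFunLike.coe_injective
    have hbound := Nat.card_le_card_of_injective _ hinj
    rw [hc, Nat.card_prod, Module.natCard_eq_pow_finrank (K := ZMod 2) (V := W →ₗ[ZMod 2] W),
      Module.natCard_eq_pow_finrank (K := ZMod 2) (V := V4 ⧸ W →ₗ[ZMod 2] V4 ⧸ W),
      Module.finrank_linearMap, Module.finrank_linearMap, Nat.card_zmod, ← pow_add] at hbound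
    have h1 : Module.finrank (ZMod 2) (V4 ⧸ W) + Module.finrank (ZMod 2) W = 4 := by
      rw [Submodule.finrank_quotient_add_finrank, Module.finrank_fin_fun]
    have h2 : Module.finrank (ZMod 2) W ≠ 0 := fun h => by
      rw [Submodule.finrank_eq_zero] at h
      exact hv0 ((Submodule.mem_bot (ZMod 2)).1 (h ▸ hvW)).symm
    have h3 : Module.finrank (ZMod 2) W < 4 := by
      refine (Submodule.finrank_lt hWt).trans_eq ?_
      exact Module.finrank_fin_fun _
    generalize Module.finrank (ZMod 2) W = a at *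
    generalize Module.finrank (ZMod 2) (V4 ⧸ W) = b at *
    have key : ∀ a < 4, a ≠ 0 → a * a + (4 - a) * (4 - a) ≤ 10 := by decide
    obtain rfl : b = 4 - a := by omega
    have := Nat.pow_le_pow_right (show 1 ≤ 2 by norm_num) (key a h3 h2)
    omega

end CfsgLib.Small.AEight
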