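import Cfsg.Agent.Lib.Small.AEight.Basic
import Cfsg.Agent.Lib.Perm.PrimeDegree
import Cfsg.Agent.Lib.Base.Cores
import Cfsg.Agent.Lib.Base.HallConverse
import Mathlib

/-!
Nonsolvable groups of even permutations of eight points with a non-trivial odd normal subgroup.
-/

set_option autoImplicit false
set_option linter.style.haveILetI false
set_option linter.unusedSectionVars false

open MulAction
open scoped Pointwise

namespace CfsgLib.Small.AEight

universe u

variable {G : Type u} [Group G] [Finite G]

/-- A subgroup of `A₈` of odd order is solvable. -/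
theorem isSolvable_of_dvd_315 (h : Nat.card G ∣ 315) : Group.IsSolvable G := by
  have key : ∀ n ≤ 315, n ∣ 315 → ¬ 5 ∣ n → n.primeFactors.card ≤ 2 := by
    intro n hn hd h5
    have hd63 : n ∣ 63 := by
      have : Nat.Coprime n 5 := ((Nat.prime_five.coprime_iff_not_dvd).2 h5).symm
      exact this.dvd_of_dvd_mul_right (by simpa using hd)
    refine (Finset.card_le_card (Nat.primeFactors_mono hd63 (by norm_num))).trans ?_
    rw [show (63 : ℕ) = 3 ^ 2 * 7 by norm_num, Nat.primeFactors_mul (by norm_num) (by norm_num),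
      Nat.primeFactors_prime_pow (by norm_num) Nat.prime_three,
      Nat.Prime.primeFactors (by norm_num)]
    exact (Finset.card_union_le _ _).trans (by simp)
  by_cases h5 : 5 ∣ Nat.card G
  · haveI : Fact (Nat.Prime 5) := ⟨Nat.prime_five⟩
    obtain ⟨P⟩ := (inferInstance : Nonempty (Sylow 5 G))
    have hP : Nat.card (P : Subgroup G) = 5 := by
      obtain ⟨k, hk⟩ := IsPGroup.iff_card.1 P.2
      have h1 : 5 ∣ Nat.card (P : Subgroup G) := P.dvd_card_of_dvd_card h5
      have h2 : 5 ^ k ∣ 315 := hk ▸ (Subgroup.card_subgroup_dvd_card _).trans h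
      have hk2 : k < 2 := by
        by_contra hlt
        exact absurd ((pow_dvd_pow 5 (not_lt.1 hlt)).trans h2) (by norm_num)
      interval_cases k
      · rw [hk] at h1; norm_num at h1
      · simpa using hk
    haveI hcyc : IsCyclic (P : Subgroup G) := isCyclic_of_prime_card hP
    haveI : IsMulCommutative (P : Subgroup G) := ⟨⟨fun a b => mul_comm' a b⟩⟩
    have hle : Subgroup.normalizer ((P : Subgroup G) : Set G) ≤
        Subgroup.centralizer ((P : Subgroup G) : Set G) := by
      set N := Subgroup.normalizer ((P : Subgroup G) : Set G)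
      set f := (P : Subgroup G).normalizerMonoidHom with hf
      have h1 : Nat.card f.range ∣ 315 :=
        ((Subgroup.card_range_dvd f).trans (Subgroup.card_subgroup_dvd_card N)).trans h
      have h2 : Nat.card f.range ∣ 4 := by
        refine (Subgroup.card_subgroup_dvd_card _).trans ?_
        rw [IsCyclic.card_mulAut, hP, Nat.totient_prime Nat.prime_five]
      have h3 : Nat.card f.range = 1 :=
        Nat.dvd_one.1 ((by norm_num : Nat.gcd 315 4 = 1) ▸ Nat.dvd_gcd h1 h2)
      intro n hn
      have : f ⟨n, hn⟩ = 1 := by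
        have hm : f ⟨n, hn⟩ ∈ f.range := ⟨_, rfl⟩
        rwa [Subgroup.card_eq_one.1 h3, Subgroup.mem_bot] at hm
      rw [Subgroup.mem_centralizer_iff]
      intro x hx
      have h4 := congrArg Subtype.val (DFunLike.congr_fun this ⟨x, hx⟩)
      simp only [hf, Subgroup.normalizerMonoidHom_apply_apply_coe, MulAut.one_apply] at h4
      exact (mul_inv_eq_iff_eq_mul.1 h4).symm
    set T := MonoidHom.transferSylow P hle with hT
    have hcomp := MonoidHom.ker_transferSylow_isComplement' P hle
    have hk5 : ¬ 5 ∣ Nat.card T.ker := MonoidHom.not_dvd_card_ker_transferSylow P hle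
    refine (Group.isSolvable_iff_subgroup_quotient T.ker).2
      ⟨CfsgLib.FgsB.FourOrbits.isSolvable_of_card_primeFactors_le_two (key _ ?_ ?_ hk5), ?_⟩
    · exact Nat.le_of_dvd (by norm_num) ((Subgroup.card_subgroup_dvd_card _).trans h)
    · exact (Subgroup.card_subgroup_dvd_card _).trans h
    · refine CfsgLib.Recog.isSolvable_of_card_lt_sixty ?_
      rw [← Subgroup.index_eq_card, hcomp.symm.index_eq_card, hP]
      norm_num
  · exact CfsgLib.FgsB.FourOrbits.isSolvable_of_card_primeFactors_le_two
      (key _ (Nat.le_of_dvd (by norm_num) h) h h5)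

theorem dvd_315_of_odd {n : ℕ} (h : n ∣ 20160) (ho : Odd n) : n ∣ 315 := by
  have : Nat.Coprime n 64 := by
    rw [show 64 = 2 ^ 6 by norm_num]
    exact (Nat.coprime_two_right.2 ho).pow_right 6
  exact this.dvd_of_dvd_mul_left (by simpa using h)

/-- A transitive group of prime degree with a non-trivial solvable normal subgroup is solvable. -/
theorem isSolvable_of_prime_degree {α : Type*} [Fintype α] {p : ℕ} [Fact p.Prime]
    (hα : Fintype.card α = p) (H : Subgroup (Equiv.Perm α)) [IsPretransitive H α]
    (N : Subgroup H) [N.Normal] (hN : N ≠ ⊥) (hs : Group.IsSolvable N) : Group.IsSolvable H := by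
  classical
  obtain ⟨σ, e, hσ, he⟩ := CfsgLib.Perm.exists_coord (G := H) hα
  refine CfsgLib.Perm.isSolvable_of_affine e fun g => ?_
  obtain ⟨n, hn⟩ := (Group.isSolvable_def _).1 hs
  have hex : ∃ n, derivedSeries N n = ⊥ := ⟨n, hn⟩
  have h0 : Nat.find hex ≠ 0 := by
    intro h
    have hb := Nat.find_spec hex
    rw [h, derivedSeries_zero] at hb
    exact hN ((Subgroup.eq_bot_iff_forall _).2 fun x hx => by
      have : (⟨x, hx⟩ : N) ∈ (⊤ : Subgroup N) := trivial
      rw [hb, Subgroup.mem_bot] at this
      exact congrArg Subtype.val this)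
  obtain ⟨m, hm⟩ := Nat.exists_eq_succ_of_ne_zero h0
  set D := derivedSeries N m with hD
  haveI : D.Characteristic := by rw [hD]; infer_instance
  set A := D.map N.subtype with hA
  haveI hAn : A.Normal := by rw [hA]; infer_instance
  have hAne : A ≠ ⊥ := by
    rw [hA, Ne, Subgroup.map_eq_bot_iff_of_injective _ N.subtype_injective]
    exact Nat.find_min hex (by omega)
  have hab : ∀ a ∈ A, ∀ b ∈ A, a * b = b * a := by
    rintro _ ⟨a, ha, rfl⟩ _ ⟨b, hb, rfl⟩
    have h1 := Subgroup.commutator_mem_commutator ha hb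
    rw [hD, ← derivedSeries_succ, show m + 1 = Nat.find hex from hm.symm, Nat.find_spec hex,
      Subgroup.mem_bot, commutatorElement_eq_one_iff_mul_comm] at h1
    exact congrArg N.subtype h1
  have := CfsgLib.Perm.normal_isPretransitive (G := H) hα A hAne
  let a := e 0
  have hreg : stabilizer A a = ⊥ := by
    rw [Subgroup.eq_bot_iff_forall]
    intro x hx
    refine Subtype.ext (Subtype.ext (Equiv.ext fun y => ?_))
    obtain ⟨z, rfl⟩ := exists_smul_eq A a y
    have hcomm : x * z = z * x := Subtype.ext (hab _ x.2 _ z.2)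
    change x • z • a = z • a
    rw [← mul_smul, hcomm, mul_smul, hx]
  have hcard : Nat.card A = p := by
    rw [← (stabilizer A a).card_mul_index, hreg, Subgroup.card_bot, one_mul, ← hreg,
      index_stabilizer_of_transitive, Nat.card_eq_fintype_card, hα]
  have hσA : σ ∈ A := CfsgLib.Perm.mem_of_normal_of_card hα A hcard
    (by rw [← hσ, pow_orderOf_eq_one])
  have hz : Subgroup.zpowers σ = A :=
    Subgroup.eq_of_le_of_card_ge (Subgroup.zpowers_le.2 hσA)
      (by rw [Nat.card_zpowers, hσ, hcard])
  have hmem : g * σ * g⁻¹ ∈ Subgroup.zpowers σ := by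
    rw [hz]; exact hAn.conj_mem σ hσA g
  obtain ⟨k, hk⟩ := (mem_powers_iff_mem_zpowers).2 hmem
  exact ⟨k, e.symm (g • e 0), CfsgLib.Perm.affine_of_conj_eq_pow he hk.symm⟩

/-- A nonsolvable group of even permutations of eight points with a non-trivial odd normal
subgroup: its 3-core has order 3, with quotient the alternating or symmetric group of degree 5. -/
theorem three_core_of_odd_radical (f : G →* Equiv.Perm (Fin 8)) (hf : Function.Injective f)
    (hsign : ∀ g, Equiv.Perm.sign (f g) = 1) (hns : ¬ Group.IsSolvable G) (O : Subgroup G)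
    [hOn : O.Normal] (hO : O ≠ ⊥) (hodd : Odd (Nat.card O)) :
    Nat.card (Cfsg.pCore 3 G) = 3 ∧
      (Nonempty (G ⧸ Cfsg.pCore 3 G ≃* alternatingGroup (Fin 5)) ∨
        Nonempty (G ⧸ Cfsg.pCore 3 G ≃* Equiv.Perm (Fin 5))) := by
  classical
  haveI : Fact (Nat.Prime 3) := ⟨Nat.prime_three⟩
  let act : MulAction G (Fin 8) := MulAction.compHom (Fin 8) f
  haveI hF : FaithfulSMul G (Fin 8) := ⟨fun {g g'} h => hf (Equiv.ext h)⟩
  have hsolO : Group.IsSolvable O := by
    refine isSolvable_of_dvd_315 (dvd_315_of_odd ?_ hodd)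
    have hR : f.range ≤ alternatingGroup (Fin 8) := by
      rintro _ ⟨g, rfl⟩
      exact hsign g
    refine (Subgroup.card_subgroup_dvd_card O).trans ?_
    rw [Nat.card_congr (MonoidHom.ofInjective hf).toEquiv]
    refine (Subgroup.card_dvd_of_le hR).trans ?_
    rw [nat_card_alternatingGroup, Nat.card_fin]
    rfl
  obtain ⟨a, ha⟩ : ∃ a : Fin 8, 5 ≤ Nat.card (orbit G a) := by
    by_contra h
    push Not at h
    exact hns (isSolvable_of_orbits fun x => Nat.le_of_lt_succ (h x))
  set Ω := orbit G a with hΩ
  have hΩ8 : Nat.card Ω ≤ 8 :=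
    (Nat.card_le_card_of_injective Subtype.val Subtype.val_injective).trans_eq (Nat.card_fin 8)
  set ψ := toPermHom G Ω with hψ
  set K := ψ.ker with hK
  have hcompl : ∀ (k : G), k ∈ K → ∀ x : Fin 8, f k x ≠ x → x ∈ (Ωᶜ : Set (Fin 8)) := by
    intro k hk x hx hxΩ
    exact hx (congrArg Subtype.val (Equiv.ext_iff.1 (MonoidHom.mem_ker.1 hk) ⟨x, hxΩ⟩))
  have hKsmall : 6 ≤ Nat.card Ω → K = ⊥ := by
    intro h6
    rw [Subgroup.eq_bot_iff_forall]
    intro k hk
    have hsupp : ((f k).support : Set (Fin 8)) ⊆ Ωᶜ := fun x hx =>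
      hcompl k hk x (Equiv.Perm.mem_support.1 hx)
    have h2 := Set.ncard_le_ncard hsupp (Set.toFinite _)
    rw [Set.ncard_compl, Nat.card_fin, ← Nat.card_coe_set_eq Ω, Set.ncard_coe_finset] at h2
    apply hf
    rw [map_one]
    by_contra hne
    have h3 : (f k).support.card = 2 := le_antisymm (by omega)
      (Equiv.Perm.two_le_card_support_of_ne_one hne)
    have h4 := Equiv.Perm.card_support_eq_two.1 h3
    exact absurd (hsign k) (by rw [h4.sign_eq]; decide)
  haveI hRt : IsPretransitive ψ.range Ω := by
    refine ⟨fun x y => ?_⟩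
    obtain ⟨g, hg⟩ := exists_smul_eq G x y
    exact ⟨⟨ψ g, g, rfl⟩, hg⟩
  haveI : Fintype Ω := Fintype.ofFinite _
  by_cases hOK : O ≤ K
  · have h5 : Nat.card Ω = 5 := by
      by_contra hne
      exact hO (le_bot_iff.1 (hKsmall (by omega) ▸ hOK))
    have hK3 : Nat.card K ≤ 3 := by
      have hc : Nat.card ↥(Ωᶜ : Set (Fin 8)) = 3 := by
        rw [Nat.card_coe_set_eq, Set.ncard_compl, ← Nat.card_coe_set_eq, Nat.card_fin, h5]
      haveI : Fintype ↥(Ωᶜ : Set (Fin 8)) := Fintype.ofFinite _
      have hinv : ∀ (k : K) (x : Fin 8), f (k : G) x ∈ (Ωᶜ : Set (Fin 8)) ↔ x ∈ (Ωᶜ : Set (Fin 8)) := by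
        intro k x
        refine not_congr ⟨fun h => ?_, fun h => ?_⟩
        · rw [hΩ, ← orbit_eq_iff.2 h]
          exact ⟨(k : G)⁻¹, inv_smul_smul (k : G) x⟩
        · rw [hΩ, ← orbit_eq_iff.2 h]
          exact ⟨(k : G), rfl⟩
      let F : K →* Equiv.Perm ↥(Ωᶜ : Set (Fin 8)) :=
        { toFun := fun k => (f (k : G)).subtypePerm (hinv k)
          map_one' := Equiv.ext fun x => Subtype.ext (by simp)
          map_mul' := fun k l => Equiv.ext fun x => Subtype.ext (by
            simp only [Subgroup.coe_mul, map_mul]; rfl) }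
      have hFi : Function.Injective F := by
        intro k l h
        refine Subtype.ext (hf (Equiv.ext fun x => ?_))
        by_cases hx : x ∈ (Ωᶜ : Set (Fin 8))
        · exact congrArg Subtype.val (Equiv.ext_iff.1 h ⟨x, hx⟩)
        · have e : ∀ k : K, f (k : G) x = x := fun k =>
            by_contra fun hh => hx (hcompl _ k.2 x hh)
          rw [e k, e l]
      have hFr : F.range ≤ alternatingGroup ↥(Ωᶜ : Set (Fin 8)) := by
        rintro _ ⟨k, rfl⟩
        rw [Equiv.Perm.mem_alternatingGroup, ← hsign (k : G)]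
        convert Equiv.Perm.sign_subtypePerm (f (k : G)) (hinv k) fun x hx => hcompl _ k.2 x hx
        rfl
      haveI : Nontrivial ↥(Ωᶜ : Set (Fin 8)) := Finite.one_lt_card_iff_nontrivial.1 (by omega)
      have := Nat.le_of_dvd Nat.card_pos (Subgroup.card_dvd_of_le hFr)
      rw [← Nat.card_congr (MonoidHom.ofInjective hFi).toEquiv, nat_card_alternatingGroup, hc] at this
      exact this
    have hO3 : 3 ≤ Nat.card O := by
      have h1 : 1 < Nat.card O := (Subgroup.one_lt_card_iff_ne_bot O).2 hO
      obtain ⟨j, hj⟩ := hodd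
      omega
    have hOKe : O = K := Subgroup.eq_of_le_of_card_ge hOK (by omega)
    have hKc : Nat.card K = 3 := by rw [hOKe] at hO3; omega
    haveI : Group.IsSolvable K := CfsgLib.Recog.isSolvable_of_card_lt_sixty (by omega)
    have hnsR : ¬ Group.IsSolvable ψ.range := fun hs => hns
      (Group.isSolvable_of_ker_le_range K.subtype ψ.rangeRestrict
        (by rw [Subgroup.range_subtype, MonoidHom.ker_rangeRestrict]))
    have h120 : Nat.card (Equiv.Perm Ω) = 120 := by
      rw [Nat.card_perm, h5]; rfl
    have hdvd : Nat.card ψ.range ∣ 120 := h120 ▸ Subgroup.card_subgroup_dvd_card _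
    have h60 : 60 ≤ Nat.card ψ.range := by
      by_contra hlt
      exact hnsR (CfsgLib.Recog.isSolvable_of_card_lt_sixty (by omega))
    have hidx := ψ.range.card_mul_index
    rw [h120] at hidx
    have e : Equiv.Perm Ω ≃* Equiv.Perm (Fin 5) :=
      (Equiv.permCongrHom ((Finite.equivFin Ω).trans (finCongr h5)))
    let j : G ⧸ K ≃* ψ.range := QuotientGroup.quotientKerEquivRange ψ
    have hiso : Nonempty (G ⧸ K ≃* alternatingGroup (Fin 5)) ∨
        Nonempty (G ⧸ K ≃* Equiv.Perm (Fin 5)) := by
      rcases (show Nat.card ψ.range = 60 ∨ Nat.card ψ.range = 120 by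
        have key : ∀ k ≤ 120, k ∣ 120 → 60 ≤ k → k = 60 ∨ k = 120 := by decide +kernel
        exact key _ (Nat.le_of_dvd (by norm_num) hdvd) hdvd h60) with h | h
      · left
        rw [h] at hidx
        have hi : (ψ.range.map e.toMonoidHom).index = 2 := by
          rw [Subgroup.index_map_of_bijective e.bijective]; omega
        exact ⟨j.trans ((ψ.range.equivMapOfInjective e.toMonoidHom e.injective).trans
          (MulEquiv.subgroupCongr (Equiv.Perm.eq_alternatingGroup_of_index_eq_two hi)))⟩
      · right
        have htop : ψ.range = ⊤ := Subgroup.eq_top_of_card_eq _ (by rw [h, h120])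
        exact ⟨j.trans ((MulEquiv.subgroupCongr htop).trans (Subgroup.topEquiv.trans e))⟩
    have hcore : Cfsg.pCore 3 G = K := by
      refine le_antisymm ?_ (CfsgLib.Base.le_pCore (IsPGroup.of_card (n := 1) (by rw [hKc]; rfl)))
      rw [hK, ← Subgroup.map_eq_bot_iff]
      by_contra hne
      have h3 : IsPGroup 3 ((Cfsg.pCore 3 G).map ψ) := (CfsgLib.Base.isPGroup_pCore 3 G).map ψ
      set M := ((Cfsg.pCore 3 G).map ψ).subgroupOf ψ.range with hM
      haveI : M.Normal := by
        have h := Subgroup.Normal.map (f := ψ.rangeRestrict) (H := Cfsg.pCore 3 G) inferInstance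
          ψ.rangeRestrict_surjective
        have he : M = (Cfsg.pCore 3 G).map ψ.rangeRestrict := by
          rw [hM]
          apply Subgroup.map_injective ψ.range.subtype_injective
          rw [Subgroup.map_map, ψ.subtype_comp_rangeRestrict,
            Subgroup.map_subgroupOf_eq_of_le (Subgroup.map_le_range ψ _)]
        rw [he]; exact h
      have hMne : M ≠ ⊥ := fun hb => hne (by
        rw [hM, Subgroup.subgroupOf_eq_bot] at hb
        exact disjoint_self.1 (hb.mono_right (Subgroup.map_le_range ψ _)))
      haveI : Fact (Nat.Prime 5) := ⟨Nat.prime_five⟩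
      have hc5 : Fintype.card Ω = 5 := by rw [← Nat.card_eq_fintype_card, h5]
      have hMp : IsPGroup 3 M :=
        h3.of_equiv (Subgroup.subgroupOfEquivOfLe (Subgroup.map_le_range ψ _)).symm
      have := hMp.isNilpotent
      exact hnsR (isSolvable_of_prime_degree hc5 ψ.range M hMne inferInstance)
    refine ⟨by rw [hcore, hKc], ?_⟩
    exact hiso.imp (fun h => h.map fun i => (QuotientGroup.quotientMulEquivOfEq hcore).trans i)
      fun h => h.map fun i => (QuotientGroup.quotientMulEquivOfEq hcore).trans i
  · exfalso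
    obtain ⟨o, hoO, hoK⟩ := Set.not_subset.1 hOK
    have hsolK : Group.IsSolvable K := by
      haveI : FaithfulSMul K (Fin 8) := ⟨fun {k k'} h => Subtype.ext (hf (Equiv.ext h))⟩
      refine isSolvable_of_orbits (α := Fin 8) fun x => ?_
      by_cases hx : x ∈ Ω
      · refine le_trans (le_of_eq (Nat.card_eq_one_iff_unique.2
          ⟨⟨?_⟩, ⟨⟨x, mem_orbit_self x⟩⟩⟩)) (by norm_num)
        rintro ⟨_, k, rfl⟩ ⟨_, k', rfl⟩
        have hk : ∀ k : K, k • x = x := fun k =>
          congrArg Subtype.val (Equiv.ext_iff.1 (MonoidHom.mem_ker.1 k.2) ⟨x, hx⟩)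
        exact Subtype.ext ((hk k).trans (hk k').symm)
      · have hsub : orbit K x ⊆ Ωᶜ := by
          rintro _ ⟨k, rfl⟩ hk
          apply hx
          rw [hΩ, ← orbit_eq_iff.2 hk]
          exact ⟨((k : G))⁻¹, inv_smul_smul (k : G) x⟩
        have h1 := Set.ncard_le_ncard hsub (Set.toFinite _)
        rw [Set.ncard_compl, Nat.card_fin, ← Nat.card_coe_set_eq, ← Nat.card_coe_set_eq] at h1
        omega
    have hprime : ∀ p : ℕ, p.Prime → Nat.card Ω = p → False := by
      intro p hp hΩp
      haveI : Fact p.Prime := ⟨hp⟩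
      haveI : (O.map ψ.rangeRestrict).Normal := hOn.map _ ψ.rangeRestrict_surjective
      have hne : O.map ψ.rangeRestrict ≠ ⊥ := fun hb => hoK (by
        rw [Subgroup.map_eq_bot_iff, MonoidHom.ker_rangeRestrict] at hb
        exact hb hoO)
      have hs : Group.IsSolvable (O.map ψ.rangeRestrict) := CfsgLib.Base.isSolvable_map' _ hsolO
      have hR := isSolvable_of_prime_degree (Nat.card_eq_fintype_card.symm.trans hΩp) ψ.range
        (O.map ψ.rangeRestrict) hne hs
      exact hns (Group.isSolvable_of_ker_le_range K.subtype ψ.rangeRestrict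
        (by rw [Subgroup.range_subtype, MonoidHom.ker_rangeRestrict]))
    rcases (show Nat.card Ω = 5 ∨ Nat.card Ω = 6 ∨ Nat.card Ω = 7 ∨ Nat.card Ω = 8 by omega) with
      h | h | h | h
    · exact hprime 5 Nat.prime_five h
    pick_goal 2
    · exact hprime 7 (by norm_num) h
    all_goals
      have hKb : K = ⊥ := hKsmall (by omega)
      haveI : FaithfulSMul G Ω := ⟨fun {g g'} hgg => by
        have : ψ g = ψ g' := Equiv.ext hgg
        exact ((MonoidHom.ker_eq_bot_iff _).1 hKb) this⟩
      obtain ⟨x, hx⟩ : ∃ x : Ω, o • x ≠ x := by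
        by_contra hall
        push Not at hall
        exact hoK (MonoidHom.mem_ker.2 (Equiv.ext hall))
      have hB : IsBlock G (orbit O x) := IsBlock.orbit_of_normal x
      have hmul := hB.ncard_block_mul_ncard_orbit_eq (nonempty_orbit x)
      rw [h] at hmul
      have hd : (orbit O x).ncard ∣ Nat.card O := by
        rw [← Nat.card_coe_set_eq, Nat.card_congr (orbitEquivQuotientStabilizer O x),
          ← Subgroup.index_eq_card]
        exact Subgroup.index_dvd_card _
      have hBodd : Odd (orbit O x).ncard := Odd.of_dvd_nat hodd hd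
      have hB1 : 1 < (orbit O x).ncard :=
        (Set.one_lt_ncard (Set.toFinite _)).2
          ⟨o • x, ⟨⟨o, hoO⟩, rfl⟩, x, mem_orbit_self x, hx⟩
    · have hBle : (orbit O x).ncard ∣ 6 := ⟨_, hmul.symm⟩
      have h3 : (orbit O x).ncard = 3 := by
        have := Nat.le_of_dvd (by norm_num) hBle
        generalize (orbit O x).ncard = n at *
        interval_cases n <;> simp_all (config := { decide := true })
      rw [h3] at hmul
      set M := stabilizer G (orbit O x) with hM
      have hM2 : M.index = 2 := by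
        rw [hM, Subgroup.index_eq_card, ← Nat.card_congr (orbitEquivQuotientStabilizer G _),
          Nat.card_coe_set_eq]
        omega
      haveI := Subgroup.normal_of_index_eq_two hM2
      have hMs : Group.IsSolvable M := by
        haveI : FaithfulSMul M (Fin 8) := ⟨fun {k k'} h => Subtype.ext (hf (Equiv.ext h))⟩
        refine isSolvable_of_orbits (α := Fin 8) fun y => ?_
        by_cases hy : y ∈ Ω
        · have hsub : orbit M y ⊆ Subtype.val '' (if (⟨y, hy⟩ : Ω) ∈ orbit O x then orbit O x
              else (orbit O x)ᶜ) := by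
            rintro _ ⟨m, rfl⟩
            refine ⟨(m : G) • (⟨y, hy⟩ : Ω), ?_, rfl⟩
            have hm : ∀ z : Ω, (m : G) • z ∈ orbit O x ↔ z ∈ orbit O x := fun z => by
              conv_lhs => rw [← mem_stabilizer_iff.1 m.2]
              exact Set.smul_mem_smul_set_iff
            split_ifs with hyB
            · exact (hm _).2 hyB
            · exact fun hh => hyB ((hm _).1 hh)
          have h1 := Set.ncard_le_ncard hsub (Set.toFinite _)
          rw [Set.ncard_image_of_injective _ Subtype.val_injective, ← Nat.card_coe_set_eq] at h1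
          refine h1.trans ?_
          split_ifs
          · omega
          · rw [Set.ncard_compl, h, h3]; norm_num
        · have hsub : orbit M y ⊆ Ωᶜ := by
            rintro _ ⟨m, rfl⟩ hk
            apply hy
            rw [hΩ, ← orbit_eq_iff.2 hk]
            exact ⟨((m : G))⁻¹, inv_smul_smul (m : G) y⟩
          have h1 := Set.ncard_le_ncard hsub (Set.toFinite _)
          rw [Set.ncard_compl, Nat.card_fin, ← Nat.card_coe_set_eq, ← Nat.card_coe_set_eq, h] at h1
          omega
      exact hns (isSolvable_of_card_ext M hMs (by omega))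
    · have hBle : (orbit O x).ncard ∣ 8 := ⟨_, hmul.symm⟩
      have hco : Nat.Coprime (orbit O x).ncard 8 := by
        exact Nat.Coprime.pow_right 3 (Nat.coprime_two_right.2 hBodd)
      have := hco.eq_one_of_dvd hBle
      omega

end CfsgLib.Small.AEight
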